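import Mathlib
import Groth.Prelude.Def_W4c5stacksedinertiaGpd

/-!
# The inertia operators on the vector space of finite groupoids
-/

universe u v

open W4c5stacksedinertia

namespace Groth.Agent.InertiaGpd

noncomputable def ofEquiv (G : Type u) [Group G] [Finite G] : (FinGrp.of G).carrier ≃* G :=
  @Equiv.mulEquiv _ _ (Nat.equivFinOfCardPos (α := G) Nat.card_pos.ne').symm _

theorem idx_congr {G : Type u} {H : Type v} [Group G] [Finite G] [Group H] [Finite H] (e : G ≃* H) :
    Idx.of G = Idx.of H :=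
  Quotient.sound ⟨((ofEquiv G).trans e).trans (ofEquiv H).symm⟩

theorem cl_congr {G : Type u} {H : Type v} [Group G] [Finite G] [Group H] [Finite H] (e : G ≃* H) :
    cl G = cl H := by rw [cl, cl, idx_congr e]

theorem rep_iso (G : Type u) [Group G] [Finite G] : Nonempty ((Idx.of G).rep ≃* G) := by
  obtain ⟨e⟩ : Nonempty ((Quotient.out (s := FinGrp.setoid) (Idx.of G)).carrier ≃* (FinGrp.of G).carrier) :=
    Quotient.exact (Quotient.out_eq (Idx.of G))
  exact ⟨e.trans (ofEquiv G)⟩

theorem cl_rep (i : Idx) : cl i.rep = Finsupp.single i 1 := by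
  have h : Idx.of i.rep = i := by
    refine Eq.trans (Quotient.sound ?_) (Quotient.out_eq i)
    exact ⟨ofEquiv i.rep⟩
  rw [cl, h]

theorem card_of (G : Type u) [Group G] [Finite G] : (Idx.of G).card = Nat.card G :=
  Nat.card_congr (rep_iso G).some.toEquiv

theorem centerCard_of (G : Type u) [Group G] [Finite G] :
    (Idx.of G).centerCard = Nat.card (Subgroup.center G) :=
  Nat.card_congr (Subgroup.centerCongr (rep_iso G).some).toEquiv

section Avg

variable {G : Type u} [Group G] [Finite G] {r : ℕ}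

instance : Finite (CommTuple G r) := by unfold CommTuple; infer_instance

noncomputable instance : Fintype (CommTuple G r) := Fintype.ofFinite _

/-- The weighted class of the centralizer of a set. -/
noncomputable def wcl (A : Set G) : K := (Nat.card (Subgroup.centralizer A) : ℚ) • cl (Subgroup.centralizer A)

omit [Finite G] in
theorem conj_centralizer (g : G) (s t : Fin r → G) (h : ∀ i, g * s i * g⁻¹ = t i) :
    (Subgroup.centralizer (Set.range s)).map (MulAut.conj g).toMonoidHom = Subgroup.centralizer (Set.range t) := by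
  ext y
  simp only [Subgroup.mem_map, Subgroup.mem_centralizer_iff, Set.forall_mem_range, MulEquiv.coe_toMonoidHom,
    MulAut.conj_apply]
  constructor
  · rintro ⟨x, hx, rfl⟩ i
    rw [← h i]
    simp [mul_assoc, hx i]
    rw [← mul_assoc (s i), hx i, mul_assoc]
  · intro hy
    refine ⟨g⁻¹ * y * g, fun i => ?_, by group⟩
    have hi := hy i
    rw [← h i] at hi
    calc s i * (g⁻¹ * y * g) = g⁻¹ * ((g * s i * g⁻¹) * y) * g := by group
      _ = g⁻¹ * (y * (g * s i * g⁻¹)) * g := by rw [hi]
      _ = g⁻¹ * y * g * s i := by group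

theorem wcl_conj {s t : CommTuple G r} (h : (CommTuple.setoid G r).r s t) :
    wcl (Set.range s.1) = wcl (Set.range t.1) := by
  obtain ⟨g, hg⟩ := h
  have e : Subgroup.centralizer (Set.range s.1) ≃* Subgroup.centralizer (Set.range t.1) :=
    (Subgroup.equivMapOfInjective _ _ (MulAut.conj g).injective).trans
      (MulEquiv.subgroupCongr (conj_centralizer g s.1 t.1 hg))
  unfold wcl
  rw [cl_congr e, Nat.card_congr e.toEquiv]

omit [Finite G] in
theorem card_class_mul (O : CommTuple.Orbit G r) :
    Nat.card {s : CommTuple G r // Quotient.mk (CommTuple.setoid G r) s = O} *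
      Nat.card (Subgroup.centralizer (Set.range (Quotient.out (s := CommTuple.setoid G r) O).1)) = Nat.card G := by
  classical
  set s₀ := Quotient.out (s := CommTuple.setoid G r) O with hs₀
  have hex : ∀ t : {s : CommTuple G r // Quotient.mk (CommTuple.setoid G r) s = O},
      ∃ g : G, ∀ i, g * s₀.1 i * g⁻¹ = t.1.1 i := fun t =>
    Quotient.exact ((Quotient.out_eq O).trans t.2.symm)
  choose sec hsec using hex
  let mv : G → CommTuple G r := fun g => ⟨fun i => g * s₀.1 i * g⁻¹,
    fun i j hij => s₀.2.1 (mul_left_cancel (mul_right_cancel hij)), fun i j => (Commute.conj_iff g).2 (s₀.2.2 i j)⟩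
  have hmv : ∀ g, Quotient.mk (CommTuple.setoid G r) (mv g) = O := fun g =>
    (Quotient.sound (show (CommTuple.setoid G r).r (mv g) s₀ from
      (CommTuple.setoid G r).iseqv.symm ⟨g, fun _ => rfl⟩)).trans (Quotient.out_eq O)
  rw [← Nat.card_prod]
  refine Nat.card_congr
    { toFun := fun p => sec p.1 * p.2.1
      invFun := fun g => (⟨mv g, hmv g⟩, ⟨(sec ⟨mv g, hmv g⟩)⁻¹ * g, ?_⟩)
      left_inv := ?_
      right_inv := fun g => by simp }
  · rw [Subgroup.mem_centralizer_iff, Set.forall_mem_range]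
    intro i
    have hi : sec ⟨mv g, hmv g⟩ * s₀.1 i * (sec ⟨mv g, hmv g⟩)⁻¹ = g * s₀.1 i * g⁻¹ := hsec _ i
    generalize sec ⟨mv g, hmv g⟩ = h at hi ⊢
    calc s₀.1 i * (h⁻¹ * g) = h⁻¹ * (h * s₀.1 i * h⁻¹) * g := by group
      _ = h⁻¹ * (g * s₀.1 i * g⁻¹) * g := by rw [hi]
      _ = h⁻¹ * g * s₀.1 i := by group
  · rintro ⟨t, c⟩
    have h1 : mv (sec t * c.1) = t.1 := by
      refine Subtype.ext (funext fun i => ?_)
      show sec t * c.1 * s₀.1 i * (sec t * c.1)⁻¹ = t.1.1 i
      rw [← hsec t i, mul_assoc (sec t) c.1, ← Subgroup.mem_centralizer_iff.1 c.2 (s₀.1 i) ⟨i, rfl⟩]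
      group
    have h2 : (⟨mv (sec t * c.1), hmv _⟩ : {s : CommTuple G r // Quotient.mk (CommTuple.setoid G r) s = O}) = t :=
      Subtype.ext h1
    refine Prod.ext h2 (Subtype.ext ?_)
    simp only [h2, inv_mul_cancel_left]

theorem inertiaROf_eq (G : Type u) [Group G] [Finite G] (r : ℕ) :
    inertiaROf r G = (Nat.card G : ℚ)⁻¹ • ∑ s : CommTuple G r, wcl (Set.range s.1) := by
  classical
  haveI : Finite (CommTuple.Orbit G r) := by unfold CommTuple.Orbit; infer_instance
  haveI : Fintype (CommTuple.Orbit G r) := Fintype.ofFinite _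
  rw [inertiaROf, finsum_eq_sum_of_fintype, Finset.smul_sum,
    ← Finset.sum_fiberwise_of_maps_to (g := Quotient.mk (CommTuple.setoid G r)) (t := (Finset.univ : Finset (CommTuple.Orbit G r))) (fun _ _ => Finset.mem_univ _)]
  refine Finset.sum_congr rfl fun O _ => ?_
  set s₀ := Quotient.out (s := CommTuple.setoid G r) O with hs₀
  rw [Finset.sum_congr rfl (g := fun _ => (Nat.card G : ℚ)⁻¹ • wcl (Set.range s₀.1)) fun s hs => by
    rw [wcl_conj (Quotient.exact ((Finset.mem_filter.1 hs).2.trans (Quotient.out_eq O).symm))]]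
  rw [Finset.sum_const, ← Fintype.card_subtype, ← Nat.card_eq_fintype_card, ← Nat.cast_smul_eq_nsmul ℚ]
  have h := congrArg (fun n : ℕ => (n : ℚ)) (card_class_mul O)
  simp only [Nat.cast_mul] at h
  rw [wcl, smul_smul, smul_smul]
  conv_lhs => rw [← one_smul ℚ (cl _)]
  congr 1
  rw [← h]
  have h0 : (Nat.card G : ℚ) ≠ 0 := Nat.cast_ne_zero.2 Nat.card_pos.ne'
  rw [← h] at h0
  field_simp [left_ne_zero_of_mul h0, right_ne_zero_of_mul h0]
  simp only [hs₀]
  exact (mul_div_cancel_left₀ _ (left_ne_zero_of_mul h0)).symm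

theorem inertiaROf_eq_zero (G : Type u) [Group G] [Finite G] (r : ℕ) (h : Nat.card G < r) :
    inertiaROf r G = 0 := by
  haveI : IsEmpty (CommTuple G r) := ⟨fun s => by
    have := Nat.card_le_card_of_injective _ s.2.1
    rw [Nat.card_fin] at this
    omega⟩
  rw [inertiaROf_eq, Finset.univ_eq_empty, Finset.sum_empty, smul_zero]

/-- One-tuples are elements. -/
noncomputable def tupleOne (G : Type u) [Group G] : CommTuple G 1 ≃ G where
  toFun s := s.1 0
  invFun x := ⟨fun _ => x, fun i j _ => Subsingleton.elim i j, fun _ _ => Commute.refl x⟩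
  left_inv s := Subtype.ext (funext fun i => congrArg s.1 (Subsingleton.elim _ _))
  right_inv _ := rfl

theorem inertiaROf_one (G : Type u) [Group G] [Finite G] [Fintype G] :
    inertiaROf 1 G = (Nat.card G : ℚ)⁻¹ • ∑ x : G, wcl {x} := by
  rw [inertiaROf_eq]
  refine congrArg _ (Fintype.sum_equiv (tupleOne G) _ _ fun s => ?_)
  have : Set.range s.1 = {tupleOne G s} := Set.range_unique
  rw [this]

theorem inertiaROf_congr {G : Type u} {H : Type v} [Group G] [Finite G] [Group H] [Finite H] (e : G ≃* H) (r : ℕ) :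
    inertiaROf r G = inertiaROf r H := by
  rw [inertiaROf_eq, inertiaROf_eq, Nat.card_congr e.toEquiv]
  let E : CommTuple G r ≃ CommTuple H r :=
    { toFun := fun s => ⟨fun i => e (s.1 i), e.injective.comp s.2.1, fun i j => (s.2.2 i j).map e⟩
      invFun := fun s => ⟨fun i => e.symm (s.1 i), e.symm.injective.comp s.2.1, fun i j => (s.2.2 i j).map e.symm⟩
      left_inv := fun s => Subtype.ext (funext fun i => e.symm_apply_apply _)
      right_inv := fun s => Subtype.ext (funext fun i => e.apply_symm_apply _) }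
  refine congrArg _ (Fintype.sum_equiv E _ _ fun s => ?_)
  have h : (Subgroup.centralizer (Set.range s.1)).map e.toMonoidHom = Subgroup.centralizer (Set.range (E s).1) := by
    ext y
    simp only [Subgroup.mem_map, Subgroup.mem_centralizer_iff, Set.forall_mem_range, MulEquiv.coe_toMonoidHom]
    constructor
    · rintro ⟨x, hx, rfl⟩ i
      show e (s.1 i) * e x = e x * e (s.1 i)
      rw [← map_mul, hx i, map_mul]
    · intro hy
      refine ⟨e.symm y, fun i => e.injective ?_, e.apply_symm_apply y⟩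
      rw [map_mul, map_mul, e.apply_symm_apply]
      exact hy i
  let E' := (Subgroup.equivMapOfInjective (Subgroup.centralizer (Set.range s.1)) e.toMonoidHom e.injective).trans
    (MulEquiv.subgroupCongr h)
  unfold wcl
  rw [cl_congr E', Nat.card_congr E'.toEquiv]

end Avg

theorem inertiaR_single (r : ℕ) (i : Idx) : inertiaR r (Finsupp.single i 1) = inertiaROf r i.rep := by
  rw [inertiaR, Finsupp.linearCombination_single, one_smul]

theorem inertiaR_cl (r : ℕ) (G : Type u) [Group G] [Finite G] : inertiaR r (cl G) = inertiaROf r G := by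
  rw [cl, inertiaR_single, inertiaROf_congr (rep_iso G).some]

theorem inertiaR_zero : inertiaR 0 = LinearMap.id := by
  refine Finsupp.lhom_ext fun i a => ?_
  rw [← Finsupp.smul_single_one i a, map_smul, map_smul, inertiaR_single, LinearMap.id_apply, inertiaROf_eq,
    ← cl_rep i]
  haveI : Unique (CommTuple i.rep 0) :=
    { default := ⟨Fin.elim0, fun j => j.elim0, fun j => j.elim0⟩
      uniq := fun s => Subtype.ext (funext fun j => j.elim0) }
  rw [Fintype.sum_unique, wcl]
  have h : Subgroup.centralizer (Set.range (default : CommTuple i.rep 0).1) = ⊤ := by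
    ext y; simp [Subgroup.mem_centralizer_iff]
  rw [cl_congr ((MulEquiv.subgroupCongr h).trans Subgroup.topEquiv),
    Nat.card_congr ((MulEquiv.subgroupCongr h).trans Subgroup.topEquiv).toEquiv]
  simp only [smul_smul]
  rw [inv_mul_cancel₀ (Nat.cast_ne_zero.2 Nat.card_pos.ne' : (Nat.card i.rep : ℚ) ≠ 0), mul_one]

theorem wcl_nested {G : Type u} [Group G] [Finite G] (A : Set G) (x : Subgroup.centralizer A) :
    wcl ({x} : Set (Subgroup.centralizer A)) = wcl (insert (x : G) A) := by
  have h : (Subgroup.centralizer ({x} : Set (Subgroup.centralizer A))).map (Subgroup.centralizer A).subtype =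
      Subgroup.centralizer (insert (x : G) A) := by
    ext y
    simp only [Subgroup.mem_map, Subgroup.mem_centralizer_iff, Set.forall_mem_insert, Set.mem_singleton_iff,
      forall_eq, Subgroup.coe_subtype]
    constructor
    · rintro ⟨z, hz, rfl⟩
      exact ⟨congrArg Subtype.val hz, Subgroup.mem_centralizer_iff.1 z.2⟩
    · rintro ⟨h1, h2⟩
      exact ⟨⟨y, Subgroup.mem_centralizer_iff.2 h2⟩, Subtype.ext h1, rfl⟩
  let e := (Subgroup.equivMapOfInjective (Subgroup.centralizer ({x} : Set (Subgroup.centralizer A)))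
    (Subgroup.centralizer A).subtype Subtype.val_injective).trans (MulEquiv.subgroupCongr h)
  unfold wcl
  rw [cl_congr e, Nat.card_congr e.toEquiv]

theorem inertiaR_succ (r : ℕ) :
    inertiaR (r + 1) = inertia ∘ₗ inertiaR r - (r : ℚ) • inertiaR r := by
  classical
  refine Finsupp.lhom_ext fun i a => ?_
  rw [← Finsupp.smul_single_one i a, map_smul, map_smul]
  congr 1
  rw [LinearMap.sub_apply, LinearMap.comp_apply, LinearMap.smul_apply, inertiaR_single, inertiaR_single]
  suffices H : ∀ (G : Type) [Group G] [Finite G], inertiaROf (r + 1) G = inertia (inertiaROf r G) - (r : ℚ) • inertiaROf r G from H i.rep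
  intro G _ _
  haveI := Fintype.ofFinite G
  rw [inertiaROf_eq G (r + 1), inertiaROf_eq G r, map_smul, map_sum, smul_comm (r : ℚ), ← smul_sub,
    Finset.smul_sum (r := (r : ℚ)), ← Finset.sum_sub_distrib]
  congr 1
  have key : ∀ s : CommTuple G r, inertia (wcl (Set.range s.1)) - (r : ℚ) • wcl (Set.range s.1) =
      ∑ x ∈ Finset.univ.filter (fun x : G => x ∈ Subgroup.centralizer (Set.range s.1) ∧ x ∉ Set.range s.1),
        wcl (insert x (Set.range s.1)) := by
    intro s
    set A := Set.range s.1 with hA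
    haveI := Fintype.ofFinite (Subgroup.centralizer A)
    have h1 : inertia (wcl A) = ∑ x : Subgroup.centralizer A, wcl (insert (x : G) A) := by
      rw [wcl, map_smul, inertia, inertiaR_cl, inertiaROf_one, smul_smul,
        mul_inv_cancel₀ (Nat.cast_ne_zero.2 Nat.card_pos.ne' : (Nat.card (Subgroup.centralizer A) : ℚ) ≠ 0), one_smul]
      exact Finset.sum_congr rfl fun x _ => wcl_nested A x
    rw [h1, ← Finset.sum_subtype (Finset.univ.filter fun x : G => x ∈ Subgroup.centralizer A) (by simp) (fun x => wcl (insert x A)),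
      ← Finset.sum_filter_add_sum_filter_not (Finset.univ.filter fun x : G => x ∈ Subgroup.centralizer A) (fun x => x ∈ A),
      Finset.filter_filter, Finset.filter_filter]
    have h2 : Finset.univ.filter (fun x : G => x ∈ Subgroup.centralizer A ∧ x ∈ A) = Finset.univ.image s.1 := by
      ext x
      simp only [Finset.mem_filter, Finset.mem_univ, true_and, Finset.mem_image, hA, Set.mem_range]
      refine ⟨fun h => h.2, fun ⟨j, hj⟩ => ⟨?_, ⟨j, hj⟩⟩⟩
      rw [Subgroup.mem_centralizer_iff, Set.forall_mem_range, ← hj]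
      exact fun k => s.2.2 k j
    rw [h2, Finset.sum_image (fun x _ y _ h => s.2.1 h),
      Finset.sum_congr rfl (g := fun _ => wcl A) fun j _ => by rw [Set.insert_eq_of_mem (Set.mem_range_self j)],
      Finset.sum_const, Finset.card_univ, Fintype.card_fin, Nat.cast_smul_eq_nsmul, add_sub_cancel_left]
  rw [Finset.sum_congr rfl fun s _ => key s, Finset.sum_sigma']
  refine Finset.sum_bij' (fun t _ => ⟨⟨Fin.init t.1, fun a b h => by
        simpa using t.2.1 (show t.1 a.castSucc = t.1 b.castSucc from h), fun a b => t.2.2 _ _⟩, t.1 (Fin.last r)⟩)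
    (fun p hp => ⟨Fin.snoc p.1.1 p.2, ?_, ?_⟩) ?_ ?_ ?_ ?_ ?_
  · simp only [Finset.mem_sigma, Finset.mem_filter] at hp
    exact Fin.snoc_injective_iff.2 ⟨p.1.2.1, hp.2.2.2⟩
  · simp only [Finset.mem_sigma, Finset.mem_filter] at hp
    have hc : ∀ j, Commute (p.1.1 j) p.2 := fun j => Subgroup.mem_centralizer_iff.1 hp.2.2.1 _ ⟨j, rfl⟩
    intro a b
    induction a using Fin.lastCases <;> induction b using Fin.lastCases <;>
      simp only [Fin.snoc_last, Fin.snoc_castSucc]
    · exact Commute.refl _
    · exact (hc _).symm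
    · exact hc _
    · exact p.1.2.2 _ _
  · intro t _
    simp only [Finset.mem_sigma, Finset.mem_univ, Finset.mem_filter, true_and]
    refine ⟨?_, ?_⟩
    · rw [Subgroup.mem_centralizer_iff, Set.forall_mem_range]
      exact fun j => t.2.2 _ _
    · rintro ⟨j, hj⟩
      exact absurd (t.2.1 (show t.1 j.castSucc = t.1 (Fin.last r) from hj)) (Fin.castSucc_lt_last j).ne
  · intro p _; exact Finset.mem_univ _
  · intro t _; exact Subtype.ext (Fin.snoc_init_self t.1)
  · intro p _
    refine Sigma.ext (Subtype.ext (Fin.init_snoc (α := fun _ => G) _ _)) (heq_of_eq (Fin.snoc_last (α := fun _ => G) _ _))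
  · intro t _
    congr 1
    conv_lhs => rw [← Fin.snoc_init_self t.1, Fin.range_snoc]

theorem inertiaR_of_eigen {μ : ℕ} {v : K} (hv : inertia v = (μ : ℚ) • v) (r : ℕ) :
    inertiaR r v = ((μ.descFactorial r : ℕ) : ℚ) • v := by
  induction r with
  | zero => simp [inertiaR_zero]
  | succ r ih =>
    rw [inertiaR_succ, LinearMap.sub_apply, LinearMap.comp_apply, LinearMap.smul_apply, ih, map_smul, hv,
      smul_smul, smul_smul, ← sub_smul, Nat.descFactorial_succ]
    congr 1
    rcases le_or_gt r μ with h | h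
    · push_cast [h]; ring
    · rw [Nat.descFactorial_eq_zero_iff_lt.2 h]; simp

theorem inertia_mem_Kle {n : ℕ} {v : K} (hv : v ∈ Kle n) : inertia v ∈ Kle n := by
  classical
  rw [← Finsupp.sum_single v, map_finsuppSum]
  refine Submodule.finsuppSum_mem ℚ _ _ _ fun i hi => ?_
  have hin : i.card ≤ n := hv (Finsupp.mem_support_iff.2 hi)
  haveI := Fintype.ofFinite i.rep
  rw [← Finsupp.smul_single_one, map_smul, inertia, inertiaR_single, inertiaROf_one]
  refine Submodule.smul_mem _ _ (Submodule.smul_mem _ _ (Submodule.sum_mem _ fun x _ => Submodule.smul_mem _ _ ?_))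
  refine Finsupp.single_mem_supported ℚ _ (show _ ≤ n from ?_)
  rw [card_of]
  exact (Nat.card_le_card_of_injective _ Subtype.val_injective).trans hin

theorem centerCard_lt {G : Type u} [Group G] [Finite G] {x : G} (hx : x ∉ Subgroup.center G) :
    Nat.card (Subgroup.center G) < Nat.card (Subgroup.center (Subgroup.centralizer ({x} : Set G))) := by
  haveI := Fintype.ofFinite G
  have hle : Subgroup.center G < (Subgroup.center (Subgroup.centralizer ({x} : Set G))).map (Subgroup.subtype _) := by
    refine SetLike.lt_iff_le_and_exists.2 ⟨fun z hz => ?_, x, ?_, hx⟩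
    · have hzc : z ∈ Subgroup.centralizer ({x} : Set G) := by
        rw [Subgroup.mem_centralizer_iff]; exact fun h _ => Subgroup.mem_center_iff.1 hz h
      exact ⟨⟨z, hzc⟩, Subgroup.mem_center_iff.2 fun y => Subtype.ext (Subgroup.mem_center_iff.1 hz y.1), rfl⟩
    · have hxc : x ∈ Subgroup.centralizer ({x} : Set G) := by
        rw [Subgroup.mem_centralizer_iff]; rintro h rfl; rfl
      exact ⟨⟨x, hxc⟩, Subgroup.mem_center_iff.2 fun y => Subtype.ext (Subgroup.mem_centralizer_iff.1 y.2 x rfl).symm, rfl⟩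
  have h2 := Set.ncard_lt_ncard (SetLike.coe_ssubset_coe.2 hle) (Set.toFinite _)
  rw [← Nat.card_coe_set_eq, ← Nat.card_coe_set_eq] at h2
  refine h2.trans_le (le_of_eq ?_)
  exact (Nat.card_congr (Subgroup.equivMapOfInjective _ _ (Subgroup.subtype_injective _)).toEquiv).symm

theorem inertia_sub_mem_Kge {k : ℕ} {v : K} (hv : v ∈ Kge k) : inertia v - (k : ℚ) • v ∈ Kge (k + 1) := by
  classical
  rw [← Finsupp.sum_single v, map_finsuppSum, Finsupp.smul_sum, Finsupp.sum, Finsupp.sum, ← Finset.sum_sub_distrib]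
  refine Submodule.sum_mem _ fun i hi => ?_
  have hik : k ≤ i.centerCard := hv hi
  haveI := Fintype.ofFinite i.rep
  rw [← Finsupp.smul_single_one i (v i), map_smul, smul_comm (k : ℚ), ← smul_sub]
  refine Submodule.smul_mem _ _ ?_
  rw [inertia, inertiaR_single, inertiaROf_one,
    ← Finset.sum_filter_add_sum_filter_not Finset.univ (fun x : i.rep => x ∈ Subgroup.center i.rep), smul_add,
    add_sub_right_comm]
  refine add_mem ?_ (Submodule.smul_mem _ _ (Submodule.sum_mem _ fun x hx => Submodule.smul_mem _ _ ?_))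
  · have hc : ∀ x ∈ Finset.univ.filter (fun x : i.rep => x ∈ Subgroup.center i.rep),
        wcl ({x} : Set i.rep) = (Nat.card i.rep : ℚ) • Finsupp.single i (1 : ℚ) := by
      intro x hx
      have h : Subgroup.centralizer ({x} : Set i.rep) = ⊤ := by
        ext y
        simp only [Subgroup.mem_centralizer_iff, Set.mem_singleton_iff, forall_eq, Subgroup.mem_top, iff_true]
        exact (Subgroup.mem_center_iff.1 (Finset.mem_filter.1 hx).2 y).symm
      rw [wcl, cl_congr ((MulEquiv.subgroupCongr h).trans Subgroup.topEquiv),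
        Nat.card_congr ((MulEquiv.subgroupCongr h).trans Subgroup.topEquiv).toEquiv, cl_rep]
    rw [Finset.sum_congr rfl hc, Finset.sum_const, ← Nat.cast_smul_eq_nsmul ℚ, smul_smul, smul_smul,
      mul_right_comm, inv_mul_cancel₀ (Nat.cast_ne_zero.2 Nat.card_pos.ne' : (Nat.card i.rep : ℚ) ≠ 0), one_mul,
      ← sub_smul]
    have hz : (Finset.univ.filter fun x : i.rep => x ∈ Subgroup.center i.rep).card = i.centerCard := by
      rw [Idx.centerCard, Nat.card_eq_fintype_card, ← Fintype.card_subtype]
    rw [hz]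
    rcases hik.eq_or_lt with h | h
    · simp [h]
    · exact Submodule.smul_mem _ _ (Finsupp.single_mem_supported ℚ _ (Nat.succ_le_of_lt h))
  · refine Finsupp.single_mem_supported ℚ _ (show k + 1 ≤ _ from ?_)
    rw [centerCard_of]
    exact Nat.succ_le_of_lt (hik.trans_lt (centerCard_lt (Finset.mem_filter.1 hx).2))

theorem Kge_mono {a b : ℕ} (h : a ≤ b) : Kge b ≤ Kge a := Finsupp.supported_mono fun _ hj => h.trans hj

theorem inertia_mem_Kge {k : ℕ} {v : K} (hv : v ∈ Kge k) : inertia v ∈ Kge k := by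
  have := add_mem (Kge_mono k.le_succ (inertia_sub_mem_Kge hv)) (Submodule.smul_mem _ (k : ℚ) hv)
  rwa [sub_add_cancel] at this

theorem inertiaR_sub_mem_Kge {k : ℕ} {v : K} (hv : v ∈ Kge k) (r : ℕ) :
    inertiaR r v - ((k.descFactorial r : ℕ) : ℚ) • v ∈ Kge (k + 1) := by
  induction r with
  | zero => simp [inertiaR_zero]
  | succ r ih =>
    set c := ((k.descFactorial r : ℕ) : ℚ)
    have hc : ((k.descFactorial (r + 1) : ℕ) : ℚ) = c * ((k : ℚ) - r) := by
      rw [Nat.descFactorial_succ]
      rcases le_or_gt r k with h | h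
      · push_cast [h, c]; ring
      · simp [c, Nat.descFactorial_eq_zero_iff_lt.2 h]
    have := add_mem (sub_mem (inertia_mem_Kge ih) (Submodule.smul_mem _ (r : ℚ) ih))
      (Submodule.smul_mem _ c (inertia_sub_mem_Kge hv))
    convert this using 1
    rw [inertiaR_succ, LinearMap.sub_apply, LinearMap.comp_apply, LinearMap.smul_apply, hc, map_sub, map_smul]
    module

theorem inertiaR_eq_zero_of_Kle {n : ℕ} {v : K} (hv : v ∈ Kle n) {r : ℕ} (hr : n < r) : inertiaR r v = 0 := by
  classical
  rw [← Finsupp.sum_single v, map_finsuppSum]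
  refine Finset.sum_eq_zero fun i hi => ?_
  have hin : i.card ≤ n := hv hi
  beta_reduce
  rw [← Finsupp.smul_single_one, map_smul, inertiaR_single, inertiaROf_eq_zero _ _ (lt_of_le_of_lt hin hr), smul_zero]

theorem exists_Kle (v : K) : ∃ n, v ∈ Kle n :=
  ⟨v.support.sup Idx.card, fun i hi => Finset.le_sup (f := Idx.card) (show i ∈ v.support from hi)⟩

theorem mem_iSup_eigen (n : ℕ) : ∀ m k : ℕ, n < m + k → ∀ v ∈ Kge k ⊓ Kle n,
    v ∈ ⨆ j ∈ Finset.Icc k n, (Module.End.eigenspace inertia (j : ℚ) ⊓ Kle n) := by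
  classical
  intro m
  induction m with
  | zero =>
    intro k hk v hv
    have hz : v = 0 := by
      refine Finsupp.support_eq_empty.1 (Finset.eq_empty_of_forall_notMem fun i hi => ?_)
      have h1 : k ≤ i.centerCard := hv.1 hi
      have h2 : i.card ≤ n := hv.2 hi
      have h3 : i.centerCard ≤ i.card := Nat.card_le_card_of_injective _ Subtype.val_injective
      omega
    rw [hz]; exact zero_mem _
  | succ m ih =>
    intro k hk v hv
    by_cases hkn : k ≤ n
    swap
    · exact ih k (by omega) v hv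
    set S := ⨆ j ∈ Finset.Icc (k + 1) n, (Module.End.eigenspace inertia (j : ℚ) ⊓ Kle n) with hS
    have hw := ih (k + 1) (by omega) (inertia v - (k : ℚ) • v)
      ⟨inertia_sub_mem_Kge hv.1, sub_mem (inertia_mem_Kle hv.2) (Submodule.smul_mem _ _ hv.2)⟩
    have hle : S ≤ Submodule.map (inertia - (k : ℚ) • LinearMap.id) S := by
      refine iSup₂_le fun j hj u hu => ⟨((j : ℚ) - k)⁻¹ • u, Submodule.smul_mem _ _ (Submodule.mem_iSup_of_mem j (Submodule.mem_iSup_of_mem hj hu)), ?_⟩
      have hjk : (j : ℚ) - k ≠ 0 := sub_ne_zero.2 (Nat.cast_injective.ne (by rw [Finset.mem_Icc] at hj; omega))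
      rw [map_smul, LinearMap.sub_apply, LinearMap.smul_apply, LinearMap.id_apply, Module.End.mem_eigenspace_iff.1 hu.1,
        ← sub_smul, smul_smul, inv_mul_cancel₀ hjk, one_smul]
    obtain ⟨u, hu, huw⟩ := hle hw
    simp only [LinearMap.sub_apply, LinearMap.smul_apply, LinearMap.id_apply] at huw
    have huK : u ∈ Kle n := (iSup₂_le fun j _ => inf_le_right : S ≤ Kle n) hu
    have hsub : S ≤ ⨆ j ∈ Finset.Icc k n, (Module.End.eigenspace inertia (j : ℚ) ⊓ Kle n) :=
      iSup₂_le fun j hj => le_iSup₂_of_le j (Finset.Icc_subset_Icc_left k.le_succ hj) le_rfl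
    rw [show v = (v - u) + u by abel]
    refine add_mem (Submodule.mem_iSup_of_mem k (Submodule.mem_iSup_of_mem (Finset.left_mem_Icc.2 hkn) ⟨?_, sub_mem hv.2 huK⟩)) (hsub hu)
    rw [SetLike.mem_coe, Module.End.mem_eigenspace_iff, map_sub, smul_sub]
    linear_combination (norm := abel) -huw

theorem mem_Kge_one (v : K) : v ∈ Kge 1 := fun i _ => Nat.one_le_iff_ne_zero.2 Nat.card_pos.ne'

theorem mem_iSup_of_Kle {n : ℕ} {v : K} (hv : v ∈ Kle n) :
    v ∈ ⨆ j ∈ Finset.Icc 1 n, (Module.End.eigenspace inertia (j : ℚ) ⊓ Kle n) :=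
  mem_iSup_eigen n n 1 (by omega) v ⟨mem_Kge_one v, hv⟩

/-- The projection formula. -/
noncomputable def proj (n k : ℕ) : K →ₗ[ℚ] K :=
  ∑ r ∈ Finset.range (n + 1), (((-1 : ℚ) ^ (r + k)) / (Nat.factorial r : ℚ) * (Nat.choose r k : ℚ)) • inertiaR r

theorem alternating (m n k : ℕ) (hm : m ≤ n) :
    ∑ r ∈ Finset.range (n + 1), (-1 : ℚ) ^ (r + k) * (r.choose k : ℚ) * (m.choose r : ℚ) = if m = k then 1 else 0 := by
  rcases lt_or_ge m k with h | h
  · rw [if_neg h.ne]
    refine Finset.sum_eq_zero fun r _ => ?_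
    rcases lt_or_ge m r with h' | h'
    · simp [Nat.choose_eq_zero_of_lt h']
    · simp [Nat.choose_eq_zero_of_lt (lt_of_le_of_lt h' h)]
  · obtain ⟨d, rfl⟩ : ∃ d, m = k + d := ⟨m - k, by omega⟩
    have hsum : ∑ r ∈ Finset.range (n + 1), (-1 : ℚ) ^ (r + k) * (r.choose k : ℚ) * ((k + d).choose r : ℚ) =
        ∑ j ∈ Finset.range (d + 1), ((k + d).choose k : ℚ) * ((-1 : ℚ) ^ j * (d.choose j : ℚ)) := by
      refine (Finset.sum_bij_ne_zero (fun j _ _ => k + j) ?_ ?_ ?_ ?_).symm
      · intro j hj _; simp only [Finset.mem_range] at hj ⊢; omega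
      · intro a _ _ b _ _ hab; omega
      · intro r hr hne
        have h1 : k ≤ r := by
          by_contra hc
          exact hne (by simp [Nat.choose_eq_zero_of_lt (not_le.1 hc)])
        have h2 : r ≤ k + d := by
          by_contra hc
          exact hne (by simp [Nat.choose_eq_zero_of_lt (not_le.1 hc)])
        refine ⟨r - k, Finset.mem_range.2 (by omega), ?_, by omega⟩
        exact mul_ne_zero (Nat.cast_ne_zero.2 (Nat.choose_pos (by omega)).ne') (mul_ne_zero (pow_ne_zero _ (by norm_num)) (Nat.cast_ne_zero.2 (Nat.choose_pos (by omega)).ne'))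
      · intro j hj _
        rw [Finset.mem_range] at hj
        have hc : ((k + d).choose (k + j) : ℚ) * ((k + j).choose k : ℚ) = ((k + d).choose k : ℚ) * (d.choose j : ℚ) := by
          rw [← Nat.cast_mul, ← Nat.cast_mul, Nat.choose_mul (by omega), Nat.add_sub_cancel_left, Nat.add_sub_cancel_left]
        rw [show k + j + k = j + 2 * k by ring, pow_add, pow_mul, neg_one_sq, one_pow, mul_one]
        linear_combination -(-1 : ℚ) ^ j * hc
    rw [hsum, ← Finset.mul_sum]
    have := congrArg (fun z : ℤ => (z : ℚ)) (Int.alternating_sum_range_choose (n := d))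
    push_cast at this
    rw [this]
    rcases Nat.eq_zero_or_pos d with hd | hd
    · simp [hd]
    · rw [if_neg hd.ne', if_neg (by omega), mul_zero]

theorem proj_of_eigen {n m k : ℕ} {v : K} (hm : m ≤ n) (hv : inertia v = (m : ℚ) • v) :
    proj n k v = if m = k then v else 0 := by
  have e : (if m = k then v else 0) = (if m = k then (1 : ℚ) else 0) • v := by split_ifs <;> simp
  rw [e, ← alternating m n k hm, Finset.sum_smul, proj, LinearMap.sum_apply]
  refine Finset.sum_congr rfl fun r _ => ?_
  rw [LinearMap.smul_apply, inertiaR_of_eigen hv, smul_smul, Nat.descFactorial_eq_factorial_mul_choose]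
  congr 1
  push_cast
  field_simp [Nat.factorial_ne_zero r]

theorem proj_spec {n : ℕ} {v : K} (hv : v ∈ Kle n) :
    (∀ k : ℕ, proj n k v ∈ Module.End.eigenspace inertia (k : ℚ)) ∧ ∑ k ∈ Finset.range (n + 1), proj n k v = v := by
  have hle : (⨆ j ∈ Finset.Icc 1 n, (Module.End.eigenspace inertia (j : ℚ) ⊓ Kle n)) ≤
      (⨅ k : ℕ, (Module.End.eigenspace inertia (k : ℚ)).comap (proj n k)) ⊓
        LinearMap.eqLocus (∑ k ∈ Finset.range (n + 1), proj n k) LinearMap.id := by
    refine iSup₂_le fun j hj u hu => ?_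
    have hjn : j ≤ n := (Finset.mem_Icc.1 hj).2
    have he := Module.End.mem_eigenspace_iff.1 hu.1
    refine ⟨Submodule.mem_iInf _ |>.2 fun k => ?_, ?_⟩
    · rw [Submodule.mem_comap, proj_of_eigen hjn he]
      split_ifs with h
      · subst h; exact hu.1
      · exact zero_mem _
    · show (∑ k ∈ Finset.range (n + 1), proj n k) u = u
      rw [LinearMap.sum_apply, Finset.sum_congr rfl fun k _ => proj_of_eigen hjn he]
      simp [Finset.mem_range, Nat.lt_succ_of_le hjn]
  obtain ⟨h1, h2⟩ := hle (mem_iSup_of_Kle hv)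
  refine ⟨fun k => (Submodule.mem_iInf _).1 h1 k, ?_⟩
  have h3 : (∑ k ∈ Finset.range (n + 1), proj n k) v = v := h2
  rwa [LinearMap.sum_apply] at h3

end Groth.Agent.InertiaGpd
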